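import Mathlib
import Groth.Prelude.Def_W4c4cptpiccptjacBI

/-! The Basic Inequality, cuts and twists on dual graphs. -/

set_option autoImplicit false

open Finset LabGraph

namespace Groth.Agent.LabBIH28

universe u

variable {V E : Type u} [Fintype V] [Fintype E] [DecidableEq V] [DecidableEq E]

/-- Indicator of a vertex set. -/
def ind (Y : Finset V) (v : V) : ℤ := if v ∈ Y then 1 else 0

omit [Fintype V] [DecidableEq E] in
theorem cut_eq (ends : E → V × V) (Y : Finset V) :
    (cut ends Y : ℤ) = ∑ e, (ind Y (ends e).1 - ind Y (ends e).2) ^ 2 := by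
  rw [cut, Finset.card_filter, Nat.cast_sum]
  refine Finset.sum_congr rfl fun e _ => ?_
  unfold ind
  split_ifs <;> simp_all

omit [Fintype V] [DecidableEq E] in
theorem sum_twist (ends : E → V × V) (φ : V → ℤ) (Y : Finset V) :
    ∑ v ∈ Y, twist ends φ v =
      ∑ e, (ind Y (ends e).1 - ind Y (ends e).2) * (φ (ends e).2 - φ (ends e).1) := by
  simp only [twist]
  rw [Finset.sum_comm]
  refine Finset.sum_congr rfl fun e _ => ?_
  rw [Finset.sum_add_distrib, Finset.sum_ite_eq, Finset.sum_ite_eq]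
  unfold ind
  split_ifs <;> ring

omit [DecidableEq E] in
theorem sum_twist_univ (ends : E → V × V) (φ : V → ℤ) : ∑ v, twist ends φ v = 0 := by
  rw [sum_twist]; simp [ind]

omit [DecidableEq E] in
theorem canDeg_univ (ends : E → V × V) (w : V → ℕ) :
    canDeg ends w univ = 2 * genus ends w - 2 := by
  have h : ∑ v, (endCount ends univ v : ℤ) = 2 * (Fintype.card E : ℤ) := by
    simp only [endCount, Nat.cast_sum, Nat.cast_add, Nat.cast_ite, Nat.cast_one, Nat.cast_zero]
    rw [Finset.sum_comm]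
    simp [Finset.sum_add_distrib, Finset.card_univ]
    ring
  simp only [canDeg, Finset.sum_add_distrib, Finset.sum_sub_distrib, ← Finset.mul_sum, h, genus,
    Finset.sum_const, Finset.card_univ, nsmul_eq_mul]
  ring

/-- Twice the deviation of a multidegree on a vertex set. -/
def dev (ends : E → V × V) (w : V → ℕ) (d : V → ℤ) (Y : Finset V) : ℤ :=
  2 * (canDeg ends w univ * (∑ v ∈ Y, d v) - (∑ v : V, d v) * canDeg ends w Y)

theorem bi_iff (ends : E → V × V) (w : V → ℕ) (d : V → ℤ) :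
    SatisfiesBI ends w d ↔ ∀ Y, |dev ends w d Y| ≤ (cut ends Y : ℤ) * canDeg ends w univ := by
  simp only [SatisfiesBI, dev, abs_mul, abs_two]

omit [DecidableEq E] in
theorem dev_eq_sum (ends : E → V × V) (w : V → ℕ) (d : V → ℤ) (Y : Finset V) :
    dev ends w d Y = ∑ v ∈ Y, 2 * (canDeg ends w univ * d v -
      (∑ u, d u) * (2 * (w v : ℤ) - 2 + (endCount ends univ v : ℤ))) := by
  rw [dev, canDeg, canDeg, ← Finset.mul_sum, Finset.sum_sub_distrib, ← Finset.mul_sum, ← Finset.mul_sum]

omit [DecidableEq E] in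
theorem dev_twist (ends : E → V × V) (w : V → ℕ) (d φ : V → ℤ) (Y : Finset V) :
    dev ends w (fun v => d v + twist ends φ v) Y = dev ends w d Y + 2 * canDeg ends w univ *
      ∑ e, (ind Y (ends e).1 - ind Y (ends e).2) * (φ (ends e).2 - φ (ends e).1) := by
  rw [dev, dev, ← sum_twist]
  simp only [Finset.sum_add_distrib, sum_twist_univ, add_zero]
  ring

omit [DecidableEq E] in
theorem dev_compl (ends : E → V × V) (w : V → ℕ) (d : V → ℤ) (Y : Finset V) :
    dev ends w d Yᶜ = -dev ends w d Y := by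
  have h : dev ends w d univ = 0 := by rw [dev]; ring
  rw [dev_eq_sum, dev_eq_sum, eq_neg_iff_add_eq_zero, Finset.sum_compl_add_sum, ← dev_eq_sum, h]

omit [DecidableEq E] in
theorem dev_union_inter (ends : E → V × V) (w : V → ℕ) (d : V → ℤ) (A B : Finset V) :
    dev ends w d (A ∪ B) + dev ends w d (A ∩ B) = dev ends w d A + dev ends w d B := by
  simp only [dev_eq_sum]
  exact Finset.sum_union_inter

theorem cut_compl (ends : E → V × V) (Y : Finset V) : cut ends Yᶜ = cut ends Y := by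
  unfold cut
  congr 1
  ext e
  simp only [mem_filter, mem_univ, true_and, mem_compl, not_not]
  tauto

/-- Twisting by a vertex set at the upper extreme preserves the Basic Inequality. -/
theorem bi_twist (ends : E → V × V) (w : V → ℕ) (d : V → ℤ) (hBI : SatisfiesBI ends w d)
    (hK : 0 ≤ canDeg ends w univ) (Z : Finset V)
    (hZ : dev ends w d Z = (cut ends Z : ℤ) * canDeg ends w univ) :
    SatisfiesBI ends w (fun v => d v + twist ends (fun u => if u ∈ Z then 1 else 0) v) := by
  rw [bi_iff] at hBI ⊢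
  have upper : ∀ Y, dev ends w (fun v => d v + twist ends (ind Z) v) Y ≤
      (cut ends Y : ℤ) * canDeg ends w univ := by
    intro Y
    rw [dev_twist]
    have h1 := dev_union_inter ends w d Y Z
    have h2 := (abs_le.1 (hBI (Y ∪ Z))).2
    have h3 := (abs_le.1 (hBI (Y ∩ Z))).2
    have h4 : (cut ends (Y ∪ Z) : ℤ) + cut ends (Y ∩ Z) - cut ends Z +
        2 * ∑ e, (ind Y (ends e).1 - ind Y (ends e).2) * (ind Z (ends e).2 - ind Z (ends e).1)
          ≤ cut ends Y := by
      simp only [cut_eq, Finset.mul_sum, ← Finset.sum_add_distrib, ← Finset.sum_sub_distrib]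
      refine Finset.sum_le_sum fun e _ => ?_
      have e1 : ∀ v, ind (Y ∪ Z) v = ind Y v + ind Z v - ind Y v * ind Z v := fun v => by
        unfold ind; by_cases h : v ∈ Y <;> by_cases h' : v ∈ Z <;> simp [h, h']
      have e2 : ∀ v, ind (Y ∩ Z) v = ind Y v * ind Z v := fun v => by
        unfold ind; by_cases h : v ∈ Y <;> by_cases h' : v ∈ Z <;> simp [h, h']
      rw [e1, e1, e2, e2]
      unfold ind
      split_ifs <;> norm_num
    have h5 := mul_le_mul_of_nonneg_right h4 hK
    nlinarith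
  intro Y
  refine abs_le.2 ⟨?_, upper Y⟩
  have := upper Yᶜ
  rw [dev_compl, cut_compl] at this
  show _ ≤ dev ends w (fun v => d v + twist ends (ind Z) v) Y
  linarith

/-- Energy minimisation gives a representative satisfying the Basic Inequality. -/
theorem exists_bi (ends : E → V × V) (w : V → ℕ) (hG : Connected ends)
    (hK : 0 < canDeg ends w univ) (d : V → ℤ) :
    ∃ d', TwistEquiv ends d' d ∧ SatisfiesBI ends w d' := by
  classical
  set K := canDeg ends w univ with hKdef
  set a : V → ℤ := fun v => 2 * (K * d v - (∑ u, d u) * (2 * (w v : ℤ) - 2 + (endCount ends univ v : ℤ))) with ha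
  have hdev : ∀ Y, dev ends w d Y = ∑ v ∈ Y, a v := fun Y => dev_eq_sum ends w d Y
  let En : (V → ℤ) → ℤ := fun φ => K * ∑ e, (φ (ends e).2 - φ (ends e).1) ^ 2 - ∑ v, a v * φ v
  obtain ⟨v₀⟩ := hG.1
  have hM : ∀ v, ∃ M : ℤ, 0 ≤ M ∧ ∀ φ : V → ℤ, |φ v - φ v₀| ≤ M * ∑ e, |φ (ends e).2 - φ (ends e).1| := by
    intro v
    induction hG.2 v₀ v with
    | refl => exact ⟨0, le_rfl, fun φ => by simp⟩
    | @tail b c _ hbc ih =>
      obtain ⟨M, hM0, hM⟩ := ih
      obtain ⟨e, he⟩ := hbc
      refine ⟨M + 1, by omega, fun φ => ?_⟩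
      have h1 : |φ c - φ b| ≤ ∑ e, |φ (ends e).2 - φ (ends e).1| := by
        refine le_trans (le_of_eq ?_) (Finset.single_le_sum (fun f _ => abs_nonneg _) (mem_univ e))
        rcases he with he | he <;> rw [he]
        exact abs_sub_comm _ _
      calc |φ c - φ v₀| = |(φ c - φ b) + (φ b - φ v₀)| := by ring_nf
        _ ≤ |φ c - φ b| + |φ b - φ v₀| := abs_add_le _ _
        _ ≤ _ := by linarith [hM φ]
  choose M hM0 hM using hM
  have htot : ∑ v, a v = 0 := by rw [← hdev, dev]; ring
  set C := ∑ v, |a v| * M v with hC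
  have hC0 : 0 ≤ C := Finset.sum_nonneg fun v _ => mul_nonneg (abs_nonneg _) (hM0 v)
  have hbd : ∀ φ, -(Fintype.card E : ℤ) * C ^ 2 ≤ En φ := by
    intro φ
    have h1 : ∑ v, a v * φ v = ∑ v, a v * (φ v - φ v₀) := by
      simp only [mul_sub, Finset.sum_sub_distrib, ← Finset.sum_mul, htot, zero_mul, sub_zero]
    have h2 : ∑ v, a v * (φ v - φ v₀) ≤ C * ∑ e, |φ (ends e).2 - φ (ends e).1| := by
      rw [hC, Finset.sum_mul]
      refine Finset.sum_le_sum fun v _ => ?_
      calc a v * (φ v - φ v₀) ≤ |a v * (φ v - φ v₀)| := le_abs_self _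
        _ = |a v| * |φ v - φ v₀| := abs_mul _ _
        _ ≤ _ := by rw [mul_assoc]; exact mul_le_mul_of_nonneg_left (hM v φ) (abs_nonneg _)
    have h3 : ∀ x : ℤ, -C ^ 2 ≤ K * x ^ 2 - C * |x| := fun x => by
      have : |x| ^ 2 = x ^ 2 := sq_abs x
      nlinarith [abs_nonneg x, mul_le_mul_of_nonneg_right (show 1 ≤ K by omega) (sq_nonneg x),
        sq_nonneg (|x| - C), mul_nonneg hC0 (abs_nonneg x)]
    have h4 : ∑ _e : E, (-C ^ 2) ≤ ∑ e, (K * (φ (ends e).2 - φ (ends e).1) ^ 2 - C * |φ (ends e).2 - φ (ends e).1|) :=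
      Finset.sum_le_sum fun e _ => h3 _
    rw [Finset.sum_const, Finset.card_univ, nsmul_eq_mul, Finset.sum_sub_distrib, ← Finset.mul_sum,
      ← Finset.mul_sum] at h4
    show _ ≤ K * _ - _
    rw [h1]
    linarith
  obtain ⟨m, ⟨φ, hφ⟩, hmin⟩ := Int.exists_least_of_bdd (P := fun z => ∃ φ, En φ = z)
    ⟨_, fun z ⟨φ, h⟩ => h ▸ hbd φ⟩ ⟨_, 0, rfl⟩
  refine ⟨fun v => d v + twist ends φ v, ⟨φ, fun v => by ring⟩, ?_⟩
  rw [bi_iff]
  intro Y
  have key : ∀ s : ℤ, s * s = 1 → s * dev ends w (fun v => d v + twist ends φ v) Y ≤ (cut ends Y : ℤ) * K := by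
    intro s hs
    have h1 := hmin _ ⟨fun v => φ v + s * ind Y v, rfl⟩
    rw [← hφ] at h1
    rw [dev_twist, hdev, ← hKdef, cut_eq]
    have hlin : ∑ v, a v * (φ v + s * ind Y v) = ∑ v, a v * φ v + s * ∑ v ∈ Y, a v := by
      simp only [mul_add, Finset.sum_add_distrib]
      congr 1
      rw [Finset.mul_sum, ← Finset.sum_filter_add_sum_filter_not univ (· ∈ Y)]
      rw [Finset.sum_eq_zero (s := univ.filter fun v => ¬ v ∈ Y) (fun v hv => by simp [ind, (mem_filter.1 hv).2]),
        add_zero, Finset.filter_univ_mem]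
      exact Finset.sum_congr rfl fun v hv => by simp [ind, hv, mul_comm]
    have hquad : ∑ e, ((φ (ends e).2 + s * ind Y (ends e).2) - (φ (ends e).1 + s * ind Y (ends e).1)) ^ 2 =
        ∑ e, (φ (ends e).2 - φ (ends e).1) ^ 2
        - 2 * s * ∑ e, (ind Y (ends e).1 - ind Y (ends e).2) * (φ (ends e).2 - φ (ends e).1)
        + ∑ e, (ind Y (ends e).1 - ind Y (ends e).2) ^ 2 := by
      rw [Finset.mul_sum, ← Finset.sum_sub_distrib, ← Finset.sum_add_distrib]
      refine Finset.sum_congr rfl fun e _ => ?_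
      linear_combination ((ind Y (ends e).2 - ind Y (ends e).1) ^ 2) * hs
    simp only [En] at h1
    rw [hlin, hquad] at h1
    linarith
  exact abs_le.2 ⟨by linarith [key (-1) (by norm_num)], by linarith [key 1 (by norm_num)]⟩

end Groth.Agent.LabBIH28
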